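import Cfsg.Agent.Cores.GlaubermanZStar
import Cfsg.Agent.Cores.PCore
import Cfsg.Agent.S2010
import Mathlib.GroupTheory.SchurZassenhaus

/-!
# Isolated 2-subgroups and central quotients when `O(G) = 1`
-/

set_option autoImplicit false
set_option linter.unusedSectionVars false
set_option linter.style.haveILetI false

namespace Cfsg.Agent.H46.HalfClasses

open Subgroup

universe u

variable {G : Type u} [Group G] [Finite G]

/-- A normal subgroup of odd order is trivial when the odd core is. -/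
theorem eq_bot_of_odd (hO : Cfsg.pPrimeCore 2 G = ⊥) {N : Subgroup G} [N.Normal]
    (h : Odd (Nat.card ↥N)) : N = ⊥ :=
  le_bot_iff.mp (hO ▸ Cores.le_pPrimeCore (Nat.coprime_two_right.mpr h))

theorem normal_of_le_center {Z : Subgroup G} (h : Z ≤ center G) : Z.Normal :=
  ⟨fun z hz g => by rwa [mem_center_iff.mp (h hz) g, mul_inv_cancel_right]⟩

/-- The centre is a 2-group when the odd core is trivial. -/
theorem center_isPGroup (hO : Cfsg.pPrimeCore 2 G = ⊥) : IsPGroup 2 ↥(center G) := by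
  intro z
  obtain ⟨k, hk, -⟩ := S2010.exists_odd_pow (z : G)
  haveI := normal_of_le_center (zpowers_le.mpr (pow_mem z.2 (2 ^ k)))
  refine ⟨k, Subtype.ext ?_⟩
  have h := eq_bot_of_odd hO (N := zpowers ((z : G) ^ 2 ^ k)) (by rwa [Nat.card_zpowers])
  simpa [zpowers_eq_bot] using h

/-- Dividing by a central 2-subgroup keeps the odd core trivial. -/
theorem core_quotient (hO : Cfsg.pPrimeCore 2 G = ⊥) (Z : Subgroup G) [Z.Normal]
    (hZc : Z ≤ center G) (hZ2 : IsPGroup 2 ↥Z) : Cfsg.pPrimeCore 2 (G ⧸ Z) = ⊥ := by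
  haveI : Fact (Nat.Prime 2) := ⟨Nat.prime_two⟩
  set π := QuotientGroup.mk' Z
  set O := Cfsg.pPrimeCore 2 (G ⧸ Z) with hOd
  set K := O.comap π with hK
  haveI hKn : K.Normal := (Cfsg.pPrimeCore_normal 2 (G ⧸ Z)).comap π
  have hZK : Z ≤ K := fun z hz => by
    show π z ∈ O
    rw [show π z = 1 from (QuotientGroup.eq_one_iff z).2 hz]
    exact O.one_mem
  set Z' : Subgroup K := Z.subgroupOf K with hZ'
  have hidx : Z'.index = Nat.card ↥O := by
    have hrange : (π.comp K.subtype).range = O := by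
      ext y
      refine ⟨?_, fun hy => ?_⟩
      · rintro ⟨k, rfl⟩
        exact k.2
      · obtain ⟨g, rfl⟩ := QuotientGroup.mk'_surjective Z y
        exact ⟨⟨g, hy⟩, rfl⟩
    rw [show Z' = (π.comp K.subtype).ker by
      rw [hZ', ← MonoidHom.comap_ker, QuotientGroup.ker_mk']; rfl, Subgroup.index_ker, hrange]
  have hodd : Odd Z'.index := by
    rw [hidx]; exact Nat.coprime_two_right.mp Cores.coprime_card_pPrimeCore
  have hcop : Nat.Coprime (Nat.card ↥Z') Z'.index := by
    obtain ⟨j, hj⟩ := (hZ2.comap_of_injective K.subtype K.subtype_injective).exists_card_eq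
    rw [show Z' = Z.comap K.subtype from rfl, hj]
    exact (Nat.coprime_two_left.mpr hodd).pow_left j
  obtain ⟨R, hR⟩ := Subgroup.exists_right_complement'_of_coprime hcop
  have hRodd : Odd (Nat.card ↥R) := by rwa [← hR.symm.index_eq_card]
  have hmem : ∀ s : K, Odd (orderOf (s : G)) → s ∈ R := by
    intro s hs
    obtain ⟨⟨z, r⟩, he⟩ := hR.2 s
    have he' : (z : K) * (r : K) = s := he
    have hzc : Commute (z : K) (r : K) :=
      Subtype.ext (mem_center_iff.mp (hZc z.2) ((r : K) : G)).symm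
    rw [Subgroup.orderOf_coe] at hs
    have hp : (z : K) ^ orderOf s * (r : K) ^ orderOf s = 1 := by
      rw [← hzc.mul_pow, he', pow_orderOf_eq_one]
    have h1 : (z : K) ^ orderOf s = 1 := Subgroup.disjoint_def.mp hR.disjoint (pow_mem z.2 _)
      (by rw [eq_inv_of_mul_eq_one_left hp]; exact inv_mem (pow_mem r.2 _))
    obtain ⟨j, hj⟩ := hZ2 ⟨((z : K) : G), z.2⟩
    have h2 : (z : K) ^ 2 ^ j = 1 := Subtype.ext (congrArg Subtype.val hj :)
    have hz1 : (z : K) = 1 := orderOf_eq_one_iff.mp (Nat.eq_one_of_dvd_coprimes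
      ((Nat.coprime_two_left.mpr hs).pow_left j)
      (orderOf_dvd_iff_pow_eq_one.mpr h2) (orderOf_dvd_iff_pow_eq_one.mpr h1))
    rw [← he', hz1, one_mul]
    exact r.2
  have hRn : (R.map K.subtype).Normal := by
    refine ⟨?_⟩
    rintro _ ⟨r, hr, rfl⟩ g
    have hgK : g * (r : G) * g⁻¹ ∈ K := hKn.conj_mem _ r.2 g
    refine ⟨⟨_, hgK⟩, hmem _ ?_, rfl⟩
    show Odd (orderOf (g * (r : G) * g⁻¹))
    have hc : orderOf (g * (r : G) * g⁻¹) = orderOf (r : G) :=
      orderOf_injective (MulAut.conj g).toMonoidHom (MulAut.conj g).injective (r : G)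
    rw [hc, Subgroup.orderOf_coe, ← Subgroup.orderOf_mk r hr]
    exact hRodd.of_dvd_nat (orderOf_dvd_natCard _)
  have hRbot : R = ⊥ := by
    rw [← Subgroup.map_eq_bot_iff_of_injective _ K.subtype_injective]
    exact eq_bot_of_odd hO (by rwa [Subgroup.card_map_of_injective K.subtype_injective])
  have h1 : Z'.index = 1 := by rw [hR.symm.index_eq_card, hRbot, Subgroup.card_bot]
  rw [hidx] at h1
  exact Subgroup.card_eq_one.mp h1

/-- Isolated 2-subgroups are central when the odd core is trivial. -/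
theorem le_center_of_isolated : ∀ (n : ℕ) (G : Type u) [Group G] [Finite G], Nat.card G = n →
    Cfsg.pPrimeCore 2 G = ⊥ → ∀ (P : Sylow 2 G) (C : Subgroup G), C ≤ (P : Subgroup G) →
    (∀ y ∈ C, ∀ z ∈ (P : Subgroup G), IsConj y z → z = y) → C ≤ center G := by
  intro n
  induction n using Nat.strong_induction_on with
  | _ n ih =>
  intro G _ _ hn hO P C hCP hiso
  haveI : Fact (Nat.Prime 2) := ⟨Nat.prime_two⟩
  by_cases hC : C = ⊥
  · rw [hC]; exact bot_le
  obtain ⟨j, hj⟩ := (P.isPGroup'.to_le hCP).exists_card_eq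
  have hj0 : j ≠ 0 := fun h => hC (Subgroup.card_eq_one.mp (by rw [hj, h, pow_zero]))
  obtain ⟨t, ht⟩ := exists_prime_orderOf_dvd_card' (G := ↥C) 2 (hj ▸ dvd_pow_self 2 hj0)
  rw [← Subgroup.orderOf_coe] at ht
  have htc : (t : G) ∈ center G := by
    rw [mem_center_iff]
    intro g
    have h := Cores.glaubermanZStar P ht (hCP t.2)
      (fun g hg => hiso t t.2 _ hg (isConj_iff.mpr ⟨g, rfl⟩)) g
    rw [show Cfsg.oddCore G = ⊥ from hO, mem_bot, mul_inv_eq_one, mul_inv_eq_iff_eq_mul] at h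
    exact h.symm
  set Z := zpowers (t : G) with hZ
  haveI : Z.Normal := normal_of_le_center (zpowers_le.mpr htc)
  have hZC : Z ≤ C := zpowers_le.mpr t.2
  set π := QuotientGroup.mk' Z
  have hlt : Nat.card (G ⧸ Z) < n := by
    rw [← hn]
    have h := card_eq_card_quotient_mul_card_subgroup Z
    rw [Nat.card_zpowers, ht] at h
    have := (Nat.card_pos : 0 < Nat.card (G ⧸ Z))
    omega
  have hO' : Cfsg.pPrimeCore 2 (G ⧸ Z) = ⊥ :=
    core_quotient hO Z (zpowers_le.mpr htc) (IsPGroup.of_card (n := 1) (by rw [Nat.card_zpowers, ht, pow_one]))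
  have key := ih _ hlt (G ⧸ Z) rfl hO' (P.mapSurjective (QuotientGroup.mk'_surjective Z))
    (C.map π) (Subgroup.map_mono hCP) (by
      rintro _ ⟨y, hy, rfl⟩ _ ⟨z, hz, rfl⟩ hc
      obtain ⟨g, hg⟩ := isConj_iff.mp hc
      obtain ⟨g, rfl⟩ := QuotientGroup.mk'_surjective Z g
      rw [← map_inv, ← map_mul, ← map_mul] at hg
      have hs := (QuotientGroup.eq.mp hg.symm : z⁻¹ * (g * y * g⁻¹) ∈ Z)
      have hP : g * y * g⁻¹ ∈ (P : Subgroup G) := by
        simpa using mul_mem hz (hCP (hZC hs))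
      rw [← hg, hiso y hy _ hP (isConj_iff.mpr ⟨g, rfl⟩)])
  intro c hc
  rw [mem_center_iff]
  intro g
  have h := mem_center_iff.mp (key ⟨c, hc, rfl⟩) (π g)
  rw [← map_mul, ← map_mul] at h
  have hs := (QuotientGroup.eq.mp h.symm : (c * g)⁻¹ * (g * c) ∈ Z)
  have hmem : g * c * g⁻¹ ∈ (P : Subgroup G) := by
    have e : g * c * g⁻¹ = c * ((c * g)⁻¹ * (g * c)) := by
      have hcomm := mem_center_iff.mp (zpowers_le.mpr htc hs) g
      calc g * c * g⁻¹ = c * (g * ((c * g)⁻¹ * (g * c))) * g⁻¹ := by group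
        _ = _ := by rw [hcomm]; group
    rw [e]
    exact mul_mem (hCP hc) (hCP (hZC hs))
  exact mul_inv_eq_iff_eq_mul.mp (hiso c hc _ hmem (isConj_iff.mpr ⟨g, rfl⟩))

end Cfsg.Agent.H46.HalfClasses
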