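import Cfsg.Agent.H73.ClassBound
import Cfsg.Agent.S2010
import Cfsg.Agent.Cores.Residual
import Cfsg.Agent.Cores.PCore
import Mathlib.GroupTheory.GroupAction.CardCommute
import Mathlib.GroupTheory.Perm.Cycle.Type

/-!
# Groups with exactly `|P|/2` classes of 2-elements: the equality case of the count
-/

set_option autoImplicit false
set_option linter.unusedSectionVars false
set_option linter.style.haveILetI false

namespace Cfsg.Agent.H46.HalfClasses

open Subgroup

/-- No 2-group has class number exactly half its order: the map `(x, y) ↦ (y, (x y)⁻¹)` on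
commuting pairs has order three and one fixed point. -/
theorem classes_ne_half {P : Type*} [Group P] [Finite P] (hP : IsPGroup 2 P) :
    2 * Nat.card (ConjClasses P) ≠ Nat.card P := by
  classical
  haveI : Fact (Nat.Prime 3) := ⟨Nat.prime_three⟩
  let S := {p : P × P // Commute p.1 p.2}
  haveI : Fintype S := Fintype.ofFinite S
  let f : Function.End S := fun p => ⟨(p.1.2, (p.1.1 * p.1.2)⁻¹),
    ((p.2.symm.mul_right (Commute.refl p.1.2)).inv_right)⟩
  have hf : f ^ 3 ^ 1 = 1 := by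
    funext p
    show f (f (f p)) = p
    apply Subtype.ext
    obtain ⟨⟨x, y⟩, hxy⟩ := p
    simp only [f, mul_inv_rev, inv_inv, mul_inv_cancel_left, inv_mul_cancel_right]
  have h := Equiv.Perm.card_fixedPoints_modEq hf
  have hone : Fintype.card f.fixedPoints = 1 := by
    rw [Fintype.card_eq_one_iff]
    refine ⟨⟨⟨(1, 1), Commute.one_left 1⟩, ?_⟩, ?_⟩
    · show f _ = _
      apply Subtype.ext
      simp [f]
    · rintro ⟨⟨⟨x, y⟩, hxy⟩, hfix⟩
      have h' := congrArg Subtype.val (hfix : f ⟨(x, y), hxy⟩ = ⟨(x, y), hxy⟩)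
      simp only [f, Prod.mk.injEq] at h'
      obtain ⟨h1, h2⟩ := h'
      subst h1
      have h3 : y ^ 3 = 1 := by
        calc y ^ 3 = y * (y * y) := pow_three y
          _ = (y * y)⁻¹ * (y * y) := by rw [h2]
          _ = 1 := inv_mul_cancel _
      obtain ⟨k, hk⟩ := IsPGroup.iff_orderOf.mp hP y
      have h4 : orderOf y = 1 := Nat.eq_one_of_dvd_coprimes
        ((by norm_num : Nat.Coprime 2 3).pow_left k) (hk ▸ dvd_rfl) (orderOf_dvd_of_pow_eq_one h3)
      have hy : y = 1 := orderOf_eq_one_iff.mp h4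
      subst hy
      rfl
  rw [hone, ← Nat.card_eq_fintype_card, card_comm_eq_card_conjClasses_mul_card] at h
  intro h2
  rw [← h2, Nat.ModEq, Nat.mul_mod, Nat.mul_mod 2 _ 3] at h
  have h3 : Nat.card (ConjClasses P) % 3 < 3 := Nat.mod_lt _ (by norm_num)
  interval_cases hj : Nat.card (ConjClasses P) % 3 <;> simp_all

variable {G : Type*} [Group G] [Finite G]

/-- The situation forced by `2 k₂(G) = |P|`. -/
structure Tight (P : Sylow 2 G) (C T : Subgroup G) (n : G) : Prop where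
  le_T : C ≤ T
  T_le : T ≤ (P : Subgroup G)
  centre_le : (P : Subgroup G) ⊓ centralizer ((P : Subgroup G) : Set G) ≤ T
  mem_normalizer : n ∈ normalizer (T : Set G)
  odd : Odd (orderOf n)
  mem_C : ∀ y, y ∈ C ↔ y ∈ T ∧ n * y * n⁻¹ = y
  fix : ∀ y ∈ T, ∀ i : ℕ, i = 1 ∨ i = 2 → y⁻¹ * (n ^ i * y * (n ^ i)⁻¹) ∈ C → y ∈ C
  card_T : Nat.card ↥T = 4 * Nat.card ↥C
  isolated : ∀ y ∈ C, ∀ z ∈ (P : Subgroup G), IsConj y z → z = y
  three : ∀ y ∈ T, y ∉ C → ∀ z ∈ (P : Subgroup G), IsConj y z →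
    z = y ∨ z = n * y * n⁻¹ ∨ z = n ^ 2 * y * (n ^ 2)⁻¹
  outside : ∀ y ∈ (P : Subgroup G), y ∉ T → ∀ z ∈ (P : Subgroup G), IsConj y z → z ∉ T
  two : ∀ y ∈ (P : Subgroup G), y ∉ T → ∀ z ∈ (P : Subgroup G), ∀ w ∈ (P : Subgroup G),
    IsConj y z → IsConj y w → z ≠ y → w ≠ y → z = w

theorem pow_conj_mem {T : Subgroup G} {n : G} (hn : n ∈ normalizer (T : Set G)) (i : ℕ) {y : G}
    (hy : y ∈ T) : n ^ i * y * (n ^ i)⁻¹ ∈ T :=
  (mem_normalizer_iff.mp (pow_mem hn i) y).mp hy

/-- Distinctness of the three conjugates. -/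
theorem fix_of {P : Sylow 2 G} {C T : Subgroup G} {n : G} (hTP : T ≤ (P : Subgroup G))
    (hn : n ∈ normalizer (T : Set G)) (hno : Odd (orderOf n))
    (hC : ∀ y, y ∈ C ↔ y ∈ T ∧ n * y * n⁻¹ = y) :
    ∀ y ∈ T, ∀ i : ℕ, i = 1 ∨ i = 2 → y⁻¹ * (n ^ i * y * (n ^ i)⁻¹) ∈ C → y ∈ C := by
  intro y hy i hi hu
  have hu' : Commute n (y⁻¹ * (n ^ i * y * (n ^ i)⁻¹)) :=
    mul_inv_eq_iff_eq_mul.mp ((hC _).mp hu).2
  obtain ⟨k, hk⟩ := isPGroup_iff_orderOf_dvd_pow.mp P.isPGroup'
    ⟨_, hTP ((hC _).mp hu).1⟩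
  rw [Subgroup.orderOf_mk] at hk
  have hcop : i.Coprime (orderOf n) := by
    rcases hi with rfl | rfl
    · exact Nat.coprime_one_left _
    · exact Nat.coprime_two_left.mpr hno
  have hodd : Odd (orderOf (n ^ i)) := hno.of_dvd_nat (orderOf_pow_dvd i)
  have hfix : Commute (n ^ i) y := S2010.odd_fix hodd
    (u := y⁻¹ * (n ^ i * y * (n ^ i)⁻¹)) (mul_inv_cancel_left y _).symm (hu'.pow_left i)
    (k := k) (orderOf_dvd_iff_pow_eq_one.mp hk)
  obtain ⟨m, hm⟩ := exists_pow_eq_self_of_coprime hcop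
  have hny : Commute n y := hm ▸ hfix.pow_left m
  exact (hC y).mpr ⟨hy, mul_inv_eq_iff_eq_mul.mpr hny⟩

/-- A nontrivial action of an odd-order element has index at least four. -/
theorem four_mul_le {C T : Subgroup G} {n : G} (hCT : C ≤ T) (hn : n ∈ normalizer (T : Set G))
    (hC : ∀ y, y ∈ C ↔ y ∈ T ∧ n * y * n⁻¹ = y)
    (hfix : ∀ y ∈ T, ∀ i : ℕ, i = 1 ∨ i = 2 → y⁻¹ * (n ^ i * y * (n ^ i)⁻¹) ∈ C → y ∈ C)
    (hne : C ≠ T) : 4 * Nat.card ↥C ≤ Nat.card ↥T := by
  classical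
  obtain ⟨y, hy, hyC⟩ := SetLike.exists_of_lt (hCT.lt_of_ne hne)
  have hcC : ∀ c ∈ C, n * c * n⁻¹ = c := fun c hc => ((hC c).mp hc).2
  have hstep : ∀ z ∈ T, n * z * n⁻¹ ∈ C → z ∈ C := by
    intro z hz h
    have e := hcC _ h
    have : n * (n * z * n⁻¹) * n⁻¹ = n * z * n⁻¹ := e
    have h2 : n * z * n⁻¹ = z := mul_left_cancel (mul_right_cancel this)
    rwa [h2] at h
  let g : Fin 3 → ↥T := fun i => ⟨n ^ (i : ℕ) * y * (n ^ (i : ℕ))⁻¹, pow_conj_mem hn _ hy⟩
  let f : Option (Fin 3) → ↥T ⧸ C.subgroupOf T := fun o => o.elim (QuotientGroup.mk 1)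
    (fun i => QuotientGroup.mk (g i))
  have hout : ∀ i : ℕ, n ^ i * y * (n ^ i)⁻¹ ∉ C := by
    intro i
    induction i with
    | zero => simpa using hyC
    | succ i ih =>
      intro h
      refine ih (hstep _ (pow_conj_mem hn i hy) ?_)
      rw [show n * (n ^ i * y * (n ^ i)⁻¹) * n⁻¹ = n ^ (i + 1) * y * (n ^ (i + 1))⁻¹ by
        rw [pow_succ']; group]
      exact h
  have hconjC : ∀ (i : ℕ) (u : G), u ∈ C → n ^ i * u * (n ^ i)⁻¹ = u := by
    intro i u hu
    have : Commute n u := mul_inv_eq_iff_eq_mul.mp (hcC u hu)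
    rw [(this.pow_left i).eq, mul_inv_cancel_right]
  have key : ∀ i j : Fin 3, (i : ℕ) < j → f (some i) ≠ f (some j) := by
    intro i j hij h
    have h' := QuotientGroup.eq.mp h
    rw [mem_subgroupOf] at h'
    simp only [g, Subgroup.coe_mul, Subgroup.coe_inv] at h'
    obtain ⟨d, hd, hd'⟩ : ∃ d : ℕ, (j : ℕ) = i + d ∧ (d = 1 ∨ d = 2) :=
      ⟨j - i, by omega, by omega⟩
    have he : (n ^ (i : ℕ) * y * (n ^ (i : ℕ))⁻¹)⁻¹ * (n ^ (j : ℕ) * y * (n ^ (j : ℕ))⁻¹) =
        n ^ (i : ℕ) * (y⁻¹ * (n ^ d * y * (n ^ d)⁻¹)) * (n ^ (i : ℕ))⁻¹ := by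
      rw [hd, pow_add]; group
    rw [he] at h'
    have h'' : y⁻¹ * (n ^ d * y * (n ^ d)⁻¹) ∈ C := by
      have := hconjC i _ h'
      have e2 := mul_left_cancel (mul_right_cancel this)
      rwa [e2] at h'
    exact hyC (hfix y hy d hd' h'')
  have key0 : ∀ i : Fin 3, f none ≠ f (some i) := by
    intro i h
    have h' := QuotientGroup.eq.mp h
    rw [mem_subgroupOf] at h'
    simp only [g, inv_one, one_mul] at h'
    exact hout i h'
  have hinj : Function.Injective f := by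
    rintro (_ | i) (_ | j) h
    · rfl
    · exact absurd h (key0 j)
    · exact absurd h.symm (key0 i)
    · rcases lt_trichotomy (i : ℕ) j with hl | hl | hl
      · exact absurd h (key i j hl)
      · exact congrArg some (Fin.ext hl)
      · exact absurd h.symm (key j i hl)
  have hidx : 4 ≤ (C.subgroupOf T).index := by
    have := Nat.card_le_card_of_injective f hinj
    simpa [Subgroup.index] using this
  have h := card_mul_index (C.subgroupOf T)
  rw [Nat.card_congr (Subgroup.subgroupOfEquivOfLe hCT).toEquiv] at h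
  rw [← h, mul_comm 4]
  exact Nat.mul_le_mul_left _ hidx

/-- Half as many classes of 2-elements as `|P|`: extract the tight configuration. -/
theorem exists_tight (hn : ¬ HasNormalPComplement 2 G) (P₀ : Sylow 2 G)
    (hk : 2 * H73.piClassCount {2} G = Nat.card ↥(P₀ : Subgroup G)) :
    ∃ (P : Sylow 2 G) (C T : Subgroup G) (n : G), Tight P C T n := by
  classical
  obtain ⟨P, T, n, hTP, hZT, hnT, hnp, hnc⟩ := H73.exists_moved_overgroup hn
  rw [H73.sylow_card_congr P₀ P] at hk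
  have hno : Odd (orderOf n) := Nat.coprime_two_right.mp hnp
  set C : Subgroup G := T ⊓ centralizer ({n} : Set G) with hCdef
  have hC : ∀ y, y ∈ C ↔ y ∈ T ∧ n * y * n⁻¹ = y := by
    intro y
    rw [hCdef, mem_inf, mem_centralizer_singleton_iff, mul_inv_eq_iff_eq_mul]
    exact ⟨fun h => ⟨h.1, h.2.symm⟩, fun h => ⟨h.1, h.2.symm⟩⟩
  have hCT : C ≤ T := inf_le_left
  have hne : C ≠ T := by
    intro h
    apply hnc
    rw [mem_centralizer_iff]
    intro y hy
    exact (mul_inv_eq_iff_eq_mul.mp ((hC y).mp (h ▸ hy)).2).symm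
  have hfix := fix_of hTP hnT hno hC
  have h4 := four_mul_le hCT hnT hC hfix hne
  haveI : Fintype G := Fintype.ofFinite G
  haveI : Fintype (ConjClasses G) := Fintype.ofFinite _
  let F : Subgroup G → Finset G := fun H => Finset.univ.filter (fun x => x ∈ H)
  have hF : ∀ H : Subgroup G, (F H).card = Nat.card ↥H := fun H => by
    rw [Nat.card_eq_fintype_card, Fintype.card_subtype]
  have hFm : ∀ (H : Subgroup G) x, x ∈ F H ↔ x ∈ H := fun H x => by simp [F]
  let w : G → ℕ := fun y => if y ∈ C then 6 else if y ∈ T then 2 else 3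
  let fib : ConjClasses G → Finset G :=
    fun c => (F (P : Subgroup G)).filter (fun z => ConjClasses.mk z = c)
  have hfibm : ∀ y z, z ∈ fib (ConjClasses.mk y) ↔ z ∈ (P : Subgroup G) ∧ IsConj y z := by
    intro y z
    simp only [fib, Finset.mem_filter, hFm, ConjClasses.mk_eq_mk_iff_isConj]
    exact ⟨fun h => ⟨h.1, h.2.symm⟩, fun h => ⟨h.1, h.2.symm⟩⟩
  have hPT : ∀ z ∈ T, z ∈ (P : Subgroup G) := fun z hz => hTP hz
  -- the three conjugates of an element of `T \ C`
  let orb : G → Finset G := fun y => (Finset.range 3).image (fun i => n ^ i * y * (n ^ i)⁻¹)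
  have horb : ∀ y ∈ T, y ∉ C → (orb y).card = 3 ∧ ∀ z ∈ orb y, z ∈ T ∧ z ∉ C ∧ IsConj y z := by
    intro y hy hyC
    have hcC : ∀ i : ℕ, ∀ u ∈ C, n ^ i * u * (n ^ i)⁻¹ = u := by
      intro i u hu
      have : Commute n u := mul_inv_eq_iff_eq_mul.mp ((hC u).mp hu).2
      rw [(this.pow_left i).eq, mul_inv_cancel_right]
    refine ⟨?_, ?_⟩
    · refine (Finset.card_image_of_injOn ?_).trans (Finset.card_range 3)
      have key : ∀ i j : ℕ, i < j → j < 3 →
          n ^ i * y * (n ^ i)⁻¹ ≠ n ^ j * y * (n ^ j)⁻¹ := by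
        intro i j hij hj h
        obtain ⟨d, rfl, hd⟩ : ∃ d, j = i + d ∧ (d = 1 ∨ d = 2) := ⟨j - i, by omega, by omega⟩
        refine hyC (hfix y hy d hd ?_)
        have e : y⁻¹ * (n ^ d * y * (n ^ d)⁻¹) = 1 := by
          rw [inv_mul_eq_one]
          apply mul_left_cancel (a := n ^ i)
          apply mul_right_cancel (b := (n ^ i)⁻¹)
          rw [h, pow_add]; group
        rw [e]
        exact one_mem C
      intro i hi j hj h
      simp only [Finset.coe_range, Set.mem_Iio] at hi hj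
      rcases lt_trichotomy i j with hl | hl | hl
      · exact absurd h (key i j hl hj)
      · exact hl
      · exact absurd h.symm (key j i hl hi)
    · intro z hz
      obtain ⟨i, -, rfl⟩ := Finset.mem_image.mp hz
      refine ⟨pow_conj_mem hnT i hy, fun h => hyC ?_, isConj_iff.mpr ⟨_, rfl⟩⟩
      have h' := hcC i _ h
      have e := mul_left_cancel (mul_right_cancel h')
      rwa [e] at h
  have hwP : ∀ y, 2 ≤ w y := fun y => by simp only [w]; split_ifs <;> norm_num
  have hw6 : ∀ y ∈ C, w y = 6 := fun y hy => if_pos hy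
  have hw2 : ∀ y ∈ T, y ∉ C → w y = 2 := fun y hy hy' => by simp [w, hy, hy']
  have hw3 : ∀ y, y ∉ T → w y = 3 := fun y hy => by
    have : y ∉ C := fun h => hy (hCT h)
    simp [w, hy, this]
  -- every fibre has weight at least six
  have hge : ∀ y ∈ (P : Subgroup G), 6 ≤ ∑ z ∈ fib (ConjClasses.mk y), w z := by
    intro y hy
    by_cases hc : ∃ z ∈ fib (ConjClasses.mk y), z ∈ C
    · obtain ⟨z, hz, hzC⟩ := hc
      exact (hw6 z hzC).ge.trans (Finset.single_le_sum (fun x _ => Nat.zero_le (w x)) hz)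
    by_cases ht : ∃ z ∈ fib (ConjClasses.mk y), z ∈ T
    · obtain ⟨z, hz, hzT⟩ := ht
      have hzC : z ∉ C := fun h => hc ⟨z, hz, h⟩
      obtain ⟨h3, hsub⟩ := horb z hzT hzC
      have hle : orb z ⊆ fib (ConjClasses.mk y) := fun u hu =>
        (hfibm y u).mpr ⟨hPT u (hsub u hu).1, ((hfibm y z).mp hz).2.trans (hsub u hu).2.2⟩
      calc 6 = ∑ u ∈ orb z, 2 := by rw [Finset.sum_const, h3]; rfl
        _ = ∑ u ∈ orb z, w u :=
          Finset.sum_congr rfl fun u hu => (hw2 u (hsub u hu).1 (hsub u hu).2.1).symm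
        _ ≤ _ := Finset.sum_le_sum_of_subset hle
    · have hyT : y ∉ T := fun h => ht ⟨y, (hfibm y y).mpr ⟨hy, IsConj.refl y⟩, h⟩
      obtain ⟨s, hs, hs'⟩ := H73.exists_finset_conj_sylow P hy fun h => hyT (hZT ⟨hy, h⟩)
      have hle : s ⊆ fib (ConjClasses.mk y) := fun u hu => (hfibm y u).mpr (hs' u hu)
      calc 6 ≤ ∑ u ∈ s, 3 := by rw [Finset.sum_const, smul_eq_mul]; omega
        _ = ∑ u ∈ s, w u :=
          Finset.sum_congr rfl fun u hu => (hw3 u fun h => ht ⟨u, hle hu, h⟩).symm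
        _ ≤ _ := Finset.sum_le_sum_of_subset hle
  -- total weight
  set J := (F (P : Subgroup G)).image ConjClasses.mk with hJ
  have hkJ : H73.piClassCount {2} G ≤ J.card := by
    have hsub : {c : ConjClasses G | ∀ x ∈ c.carrier, H73.PiElem {2} x} ⊆ ↑J := by
      intro c hc
      obtain ⟨z, rfl⟩ := ConjClasses.mk_surjective c
      obtain ⟨g, hg⟩ := H73.exists_conj_mem_sylow P (H73.mk_mem_iff.mp hc)
      rw [Finset.mem_coe, hJ, Finset.mem_image]
      exact ⟨_, (hFm _ _).mpr hg,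
        (ConjClasses.mk_eq_mk_iff_isConj.mpr (isConj_iff.mpr ⟨g, rfl⟩)).symm⟩
    calc H73.piClassCount {2} G = Set.ncard {c : ConjClasses G | ∀ x ∈ c.carrier, H73.PiElem {2} x} :=
          Nat.card_coe_set_eq _
      _ ≤ (↑J : Set (ConjClasses G)).ncard := Set.ncard_le_ncard hsub
      _ = J.card := Set.ncard_coe_finset _
  have htot : ∑ c ∈ J, ∑ z ∈ fib c, w z = ∑ z ∈ F (P : Subgroup G), w z :=
    Finset.sum_fiberwise_of_maps_to (fun x hx => Finset.mem_image_of_mem _ hx) _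
  have hsum : ∑ z ∈ F (P : Subgroup G), w z + Nat.card ↥T =
      3 * Nat.card ↥(P : Subgroup G) + 4 * Nat.card ↥C := by
    have e1 : ∀ z, w z + (if z ∈ T then 1 else 0) = 3 + (if z ∈ C then 4 else 0) := by
      intro z
      by_cases h1 : z ∈ C
      · simp [w, h1, hCT h1]
      · by_cases h2 : z ∈ T <;> simp [w, h1, h2]
    have e2 := Finset.sum_congr (rfl : F (P : Subgroup G) = _) (fun z _ => e1 z)
    rw [Finset.sum_add_distrib, Finset.sum_add_distrib, ← Finset.sum_filter, ← Finset.sum_filter,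
      Finset.sum_const, Finset.sum_const, Finset.sum_const] at e2
    have f1 : (F (P : Subgroup G)).filter (fun z => z ∈ T) = F T := by
      ext z; simp only [Finset.mem_filter, hFm]; exact ⟨fun h => h.2, fun h => ⟨hPT z h, h⟩⟩
    have f2 : (F (P : Subgroup G)).filter (fun z => z ∈ C) = F C := by
      ext z; simp only [Finset.mem_filter, hFm]
      exact ⟨fun h => h.2, fun h => ⟨hPT z (hCT h), h⟩⟩
    rw [f1, f2, hF, hF, hF] at e2
    simp only [smul_eq_mul, mul_one] at e2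
    omega
  have hgeJ : ∀ c ∈ J, 6 ≤ ∑ z ∈ fib c, w z := by
    intro c hc
    obtain ⟨y, hy, rfl⟩ := Finset.mem_image.mp hc
    exact hge y ((hFm _ _).mp hy)
  have hlow : ∑ c ∈ J, 6 ≤ ∑ c ∈ J, ∑ z ∈ fib c, w z := Finset.sum_le_sum hgeJ
  rw [Finset.sum_const, smul_eq_mul] at hlow
  have heq : ∀ c ∈ J, 6 = ∑ z ∈ fib c, w z := by
    refine (Finset.sum_eq_sum_iff_of_le hgeJ).mp ?_
    rw [Finset.sum_const, smul_eq_mul]
    omega
  have hcard : Nat.card ↥T = 4 * Nat.card ↥C := by omega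
  have hEQ : ∀ y ∈ (P : Subgroup G), 6 = ∑ z ∈ fib (ConjClasses.mk y), w z := fun y hy =>
    heq _ (Finset.mem_image_of_mem _ ((hFm _ _).mpr hy))
  have hiso : ∀ y ∈ C, ∀ z ∈ (P : Subgroup G), IsConj y z → z = y := by
    intro y hy z hz hc
    by_contra hne'
    have h := hEQ y (hTP (hCT hy))
    have hmy : y ∈ fib (ConjClasses.mk y) := (hfibm y y).mpr ⟨hTP (hCT hy), IsConj.refl y⟩
    have hmz : z ∈ fib (ConjClasses.mk y) := (hfibm y z).mpr ⟨hz, hc⟩
    have := Finset.sum_le_sum_of_subset (f := w)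
      (Finset.insert_subset hmy (Finset.singleton_subset_iff.mpr hmz))
    rw [Finset.sum_pair (Ne.symm hne'), hw6 y hy] at this
    have := hwP z
    omega
  have hthree : ∀ y ∈ T, y ∉ C → ∀ z ∈ (P : Subgroup G), IsConj y z → z ∈ orb y := by
    intro y hy hyC z hz hc
    by_contra hzo
    obtain ⟨h3, hsub⟩ := horb y hy hyC
    have hle : insert z (orb y) ⊆ fib (ConjClasses.mk y) := Finset.insert_subset
      ((hfibm y z).mpr ⟨hz, hc⟩)
      (fun u hu => (hfibm y u).mpr ⟨hPT u (hsub u hu).1, (hsub u hu).2.2⟩)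
    have := Finset.sum_le_sum_of_subset (f := w) hle
    rw [Finset.sum_insert hzo, ← hEQ y (hTP hy),
      Finset.sum_congr rfl (fun u hu => hw2 u (hsub u hu).1 (hsub u hu).2.1),
      Finset.sum_const, h3] at this
    have := hwP z
    simp only [smul_eq_mul] at *
    omega
  have hout : ∀ y ∈ (P : Subgroup G), y ∉ T → ∀ z ∈ (P : Subgroup G), IsConj y z → z ∉ T := by
    intro y hy hyT z hz hc hzT
    by_cases hzC : z ∈ C
    · exact hyT (hiso z hzC y hy hc.symm ▸ hzT)
    · exact hyT ((horb z hzT hzC).2 y (hthree z hzT hzC y hy hc.symm)).1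
  refine ⟨P, C, T, n, hCT, hTP, hZT, hnT, hno, hC, hfix, hcard, hiso, ?_, hout, ?_⟩
  · intro y hy hyC z hz hc
    obtain ⟨i, hi, rfl⟩ := Finset.mem_image.mp (hthree y hy hyC z hz hc)
    rw [Finset.mem_range] at hi
    interval_cases i
    · left; simp
    · right; left; simp
    · right; right; rfl
  · intro y hy hyT z hz u hu hcz hcu hzy huy
    by_contra hzu
    have hle : ({y, z, u} : Finset G) ⊆ fib (ConjClasses.mk y) := by
      intro x hx
      simp only [Finset.mem_insert, Finset.mem_singleton] at hx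
      rcases hx with rfl | rfl | rfl
      · exact (hfibm _ _).mpr ⟨hy, IsConj.refl _⟩
      · exact (hfibm _ _).mpr ⟨hz, hcz⟩
      · exact (hfibm _ _).mpr ⟨hu, hcu⟩
    have := Finset.sum_le_sum_of_subset (f := w) hle
    rw [Finset.sum_insert (by simp [Ne.symm hzy, Ne.symm huy]),
      Finset.sum_pair hzu, ← hEQ y hy, hw3 y hyT, hw3 z (hout y hy hyT z hz hcz),
      hw3 u (hout y hy hyT u hu hcu)] at this
    omega

end Cfsg.Agent.H46.HalfClasses
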