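import Cfsg.Agent.H46.HalfClasses.Structure
import Cfsg.Agent.PGroups.Basic
import Cfsg.Agent.Fusion.Basic
import Cfsg.Agent.H34.SelfCentV4
import Cfsg.Agent.H69.Basic
import Cfsg.Agent.Linear.Simple
import Cfsg.Agent.Linear.Order
import Mathlib.GroupTheory.Transfer
import Mathlib.GroupTheory.Focal
import Mathlib.GroupTheory.IsPerfect
import Mathlib.GroupTheory.SpecificGroups.KleinFour
import Mathlib.GroupTheory.SpecificGroups.Dihedral

/-!
# The quotient by the centre: one class of involutions in a self-centralising four-group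
-/

set_option autoImplicit false
set_option linter.unusedSectionVars false
set_option linter.style.haveILetI false

namespace Cfsg.Agent.H46.HalfClasses

open Subgroup
open scoped commutatorElement

universe u

/-- The shape of `G / Z(G)`. -/
structure Reduced {Q : Type u} [Group Q] [Finite Q] (S : Sylow 2 Q) (V : Subgroup Q) : Prop where
  core : Cfsg.pPrimeCore 2 Q = ⊥
  V_le : V ≤ (S : Subgroup Q)
  card_V : Nat.card ↥V = 4
  closed : ∀ t ∈ V, ∀ z ∈ (S : Subgroup Q), IsConj t z → z ∈ V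
  transitive : ∀ s ∈ V, ∀ t ∈ V, s ≠ 1 → t ≠ 1 → IsConj s t
  selfcent : (S : Subgroup Q) ⊓ centralizer (V : Set Q) ≤ V

theorem Tight.reduced {G : Type u} [Group G] [Finite G] {P : Sylow 2 G} {C T : Subgroup G} {n : G}
    (h : Tight P C T n) (hO : Cfsg.pPrimeCore 2 G = ⊥) :
    Reduced (P.mapSurjective (QuotientGroup.mk'_surjective (center G)))
      (T.map (QuotientGroup.mk' (center G))) := by
  set π := QuotientGroup.mk' (center G) with hπ
  have hCe := h.eq_center hO
  have hker : ∀ x : G, π x = 1 ↔ x ∈ C := fun x => by rw [hCe]; exact QuotientGroup.eq_one_iff x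
  have hmk : ∀ x y : G, π x = π y ↔ x⁻¹ * y ∈ C := fun x y => by
    rw [hCe]; exact QuotientGroup.eq
  have hcard : Nat.card ↥(T.map π) = 4 := by
    have e := card_eq_card_quotient_mul_card_subgroup (π.comp T.subtype).ker
    rw [← Subgroup.index.eq_def, Subgroup.index_ker, MonoidHom.range_comp, Subgroup.range_subtype] at e
    have hk : Nat.card ↥(π.comp T.subtype).ker = Nat.card ↥C := by
      rw [show (π.comp T.subtype).ker = C.subgroupOf T by
        ext x; rw [MonoidHom.mem_ker, mem_subgroupOf]; exact hker x,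
        Nat.card_congr (Subgroup.subgroupOfEquivOfLe h.le_T).toEquiv]
    rw [hk, h.card_T] at e
    exact (Nat.eq_of_mul_eq_mul_right Nat.card_pos e).symm
  refine ⟨core_quotient hO (center G) le_rfl (center_isPGroup hO), Subgroup.map_mono h.T_le,
    hcard, ?_, ?_, ?_⟩
  · rintro _ ⟨y, hy, rfl⟩ _ ⟨z, hz, rfl⟩ hc
    obtain ⟨g, hg⟩ := isConj_iff.mp hc
    obtain ⟨g, rfl⟩ := QuotientGroup.mk'_surjective (center G) g
    rw [← map_inv, ← map_mul, ← map_mul] at hg
    have hs : z⁻¹ * (g * y * g⁻¹) ∈ C := (hmk _ _).mp hg.symm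
    have hP : g * y * g⁻¹ ∈ (P : Subgroup G) := by
      simpa using mul_mem hz (h.T_le (h.le_T hs))
    exact ⟨_, h.conj_mem_T hy hP (isConj_iff.mpr ⟨g, rfl⟩), hg⟩
  · rintro _ ⟨y, hy, rfl⟩ _ ⟨t, ht, rfl⟩ hy1 ht1
    classical
    have hyC : y ∉ C := fun hc => hy1 ((hker y).mpr hc)
    let g : ℕ → G ⧸ center G := fun i => π (n ^ i * y * (n ^ i)⁻¹)
    have hg0 : g 0 = π y := by simp [g]
    have hgm : ∀ i, g i ∈ T.map π := fun i => ⟨_, pow_conj_mem h.mem_normalizer i hy, rfl⟩
    have hgc : ∀ i, IsConj (π y) (g i) := fun i =>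
      isConj_iff.mpr ⟨π (n ^ i), by simp [g, map_mul, map_inv]⟩
    have hg1 : ∀ i, g i ≠ 1 := fun i e => by
      have := hgc i
      rw [e, isConj_one_left] at this
      exact hy1 this
    have hd : ∀ i d : ℕ, (d = 1 ∨ d = 2) → g i ≠ g (i + d) := by
      intro i d hd e
      have e' : π y = π (n ^ d * y * (n ^ d)⁻¹) := by
        simp only [g, map_mul, map_inv, map_pow, pow_add] at e
        apply mul_left_cancel (a := π n ^ i)
        apply mul_right_cancel (b := (π n ^ i)⁻¹)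
        rw [e, map_mul, map_mul, map_inv, map_pow]
        group
      exact hyC (h.fix y hy d hd ((hmk _ _).mp e'))
    let s : Finset (G ⧸ center G) := {1, g 0, g 1, g 2}
    have hs : s.card = 4 := by
      have h01 := hd 0 1 (Or.inl rfl)
      have h02 := hd 0 2 (Or.inr rfl)
      have h12 := hd 1 1 (Or.inl rfl)
      simp only [Nat.zero_add] at h01 h02
      simp only [s]
      rw [Finset.card_insert_of_notMem (by simp [(hg1 0).symm, (hg1 1).symm, (hg1 2).symm]),
        Finset.card_insert_of_notMem (by simp [h01, h02]),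
        Finset.card_insert_of_notMem (by simpa using h12), Finset.card_singleton]
    have hsub : (↑s : Set (G ⧸ center G)) ⊆ ↑(T.map π) := by
      intro x hx
      simp only [s, Finset.coe_insert, Finset.coe_singleton, Set.mem_insert_iff,
        Set.mem_singleton_iff] at hx
      rcases hx with rfl | rfl | rfl | rfl
      exacts [one_mem _, hgm 0, hgm 1, hgm 2]
    have heq := Set.eq_of_subset_of_ncard_le hsub (by
      rw [Set.ncard_coe_finset, hs, ← Nat.card_coe_set_eq]; exact hcard.le)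
    have hmem : π t ∈ (↑s : Set (G ⧸ center G)) := heq ▸ ⟨t, ht, rfl⟩
    simp only [s, Finset.coe_insert, Finset.coe_singleton, Set.mem_insert_iff,
      Set.mem_singleton_iff] at hmem
    rcases hmem with e | e | e | e
    · exact absurd e ht1
    all_goals rw [e]; exact hgc _
  · rintro _ ⟨⟨p, hp, rfl⟩, hcent⟩
    refine ⟨p, h.mem_T_of_fix hO hp fun t ht => (hmk _ _).mp ?_, rfl⟩
    have := mem_centralizer_iff.mp hcent (π t) ⟨t, ht, rfl⟩
    rw [map_mul, map_mul, map_inv, ← this, mul_inv_cancel_right]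

/-- The Gorenstein–Walter statement used for the insoluble case. -/
def GWInput : Prop :=
  ∀ (X : Type u) [Group X] [Finite X] [Group.IsPerfect X] (S : Sylow 2 X) (n : ℕ), 2 ≤ n →
    Nonempty ((S : Subgroup X) ≃* DihedralGroup n) →
    (∃ (F : Type) (_ : Field F) (_ : Fintype F), Odd (Fintype.card F) ∧ 3 < Fintype.card F ∧
        Nonempty (X ⧸ Cfsg.oddCore X ≃* Matrix.ProjectiveSpecialLinearGroup (Fin 2) F)) ∨
      Nonempty (X ⧸ Cfsg.oddCore X ≃* alternatingGroup (Fin 7))

variable {Q : Type u} [Group Q] [Finite Q] {S : Sylow 2 Q} {V : Subgroup Q}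

theorem Reduced.sq_eq_one (h : Reduced S V) {v : Q} (hv : v ∈ V) : v ^ 2 = 1 := by
  haveI : Fact (Nat.Prime 2) := ⟨Nat.prime_two⟩
  obtain ⟨t, ht⟩ := exists_prime_orderOf_dvd_card' (G := ↥V) 2 (by rw [h.card_V]; norm_num)
  rw [← Subgroup.orderOf_coe] at ht
  by_cases hv1 : v = 1
  · rw [hv1, one_pow]
  · obtain ⟨g, rfl⟩ := isConj_iff.mp (h.transitive t t.2 v hv (fun e => by simp [e] at ht) hv1)
    rw [conj_pow, show (t : Q) ^ 2 = 1 by rw [← ht, pow_orderOf_eq_one], mul_one, mul_inv_cancel]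

theorem Reduced.isKleinFour (h : Reduced S V) : IsKleinFour ↥V := by
  haveI : Nontrivial ↥V := Finite.one_lt_card_iff_nontrivial.mp (by rw [h.card_V]; norm_num)
  exact ⟨h.card_V, (Monoid.exponent_eq_prime_iff Nat.prime_two).mpr fun v hv => by
    rw [← Subgroup.orderOf_coe]
    exact orderOf_eq_prime (hp := ⟨Nat.prime_two⟩) (h.sq_eq_one v.2) fun e => hv (Subtype.ext e)⟩

theorem Reduced.conj_mem (h : Reduced S V) {p v : Q} (hp : p ∈ (S : Subgroup Q)) (hv : v ∈ V) :
    p * v * p⁻¹ ∈ V :=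
  h.closed v hv _ (mul_mem (mul_mem hp (h.V_le hv)) (inv_mem hp)) (isConj_iff.mpr ⟨p, rfl⟩)

theorem Reduced.le_normalizer (h : Reduced S V) :
    (S : Subgroup Q) ≤ normalizer (V : Set Q) := by
  intro p hp
  rw [mem_normalizer_iff]
  refine fun y => ⟨fun hy => h.conj_mem hp hy, fun hy => ?_⟩
  have := h.conj_mem (inv_mem hp) hy
  simpa [mul_assoc] using this

theorem Reduced.le_normal (h : Reduced S V) (N : Subgroup Q) [N.Normal] (hN : N ≠ ⊥) : V ≤ N := by
  haveI : Fact (Nat.Prime 2) := ⟨Nat.prime_two⟩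
  obtain ⟨R, hR⟩ := H73.sylow_inf_normal S N
  have hRne : (R : Subgroup ↥N) ≠ ⊥ := by
    intro e
    apply hN
    refine eq_bot_of_odd h.core ?_
    have h2 := R.not_dvd_index
    rw [e, index_bot] at h2
    exact Nat.not_even_iff_odd.mp fun he => h2 (even_iff_two_dvd.mp he)
  set A : Subgroup ↥(S : Subgroup Q) := N.subgroupOf S
  have hA : A ≠ ⊥ := by
    intro e
    apply hRne
    rw [hR, subgroupOf_eq_bot, disjoint_comm, ← subgroupOf_eq_bot]
    exact e
  obtain ⟨⟨z, hz⟩, hz1⟩ := ne_bot_iff_exists_ne_one.mp (PGroups.inf_center_ne_bot S.isPGroup' A hA)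
  have hzV : (z : Q) ∈ V := h.selfcent ⟨z.2, fun v hv =>
    congrArg Subtype.val (mem_center_iff.mp hz.2 ⟨v, h.V_le hv⟩)⟩
  have hz1' : (z : Q) ≠ 1 := fun e => hz1 (Subtype.ext (Subtype.ext e))
  intro v hv
  by_cases hv1 : v = 1
  · rw [hv1]; exact one_mem N
  obtain ⟨g, rfl⟩ := isConj_iff.mp (h.transitive _ hzV v hv hz1' hv1)
  exact ‹N.Normal›.conj_mem _ hz.1 g

theorem Reduced.four (h : Reduced S V) {v w a : Q} (hv : v ∈ V) (hw : w ∈ V) (ha : a ∈ V)
    (hv1 : v ≠ 1) (hw1 : w ≠ 1) (hvw : v ≠ w) : a = 1 ∨ a = v ∨ a = w ∨ a = v * w := by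
  classical
  let s : Finset Q := {1, v, w, v * w}
  have hvv : v⁻¹ = v := inv_eq_of_mul_eq_one_right (by rw [← pow_two, h.sq_eq_one hv])
  have hs : s.card = 4 := by
    simp only [s]
    rw [Finset.card_insert_of_notMem, Finset.card_insert_of_notMem,
      Finset.card_insert_of_notMem, Finset.card_singleton]
    · simp [hv1]
    · simp [hvw, hw1]
    · simp only [Finset.mem_insert, Finset.mem_singleton, not_or]
      exact ⟨hv1.symm, hw1.symm, fun e => hvw (by
        rw [← hvv]; exact (eq_inv_of_mul_eq_one_right e.symm).symm)⟩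
  have hsub : (↑s : Set Q) ⊆ ↑V := by
    intro x hx
    simp only [s, Finset.coe_insert, Finset.coe_singleton, Set.mem_insert_iff,
      Set.mem_singleton_iff] at hx
    rcases hx with rfl | rfl | rfl | rfl
    exacts [one_mem _, hv, hw, mul_mem hv hw]
  have heq := Set.eq_of_subset_of_ncard_le hsub (by
    rw [Set.ncard_coe_finset, hs, ← Nat.card_coe_set_eq]; exact h.card_V.le)
  simpa [s] using (heq ▸ ha : a ∈ (↑s : Set Q))

theorem Reduced.inv_mul_mem (h : Reduced S V) {x y : Q} (hx : x ∈ (S : Subgroup Q))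
    (hy : y ∈ (S : Subgroup Q)) (hxV : x ∉ V) (hyV : y ∉ V) : x⁻¹ * y ∈ V := by
  haveI : Fact (Nat.Prime 2) := ⟨Nat.prime_two⟩
  haveI : (V.subgroupOf (S : Subgroup Q)).Normal :=
    (normal_subgroupOf_iff_le_normalizer h.V_le).mpr h.le_normalizer
  have hne : V.subgroupOf (S : Subgroup Q) ≠ ⊥ := by
    intro e
    have := Nat.card_congr (Subgroup.subgroupOfEquivOfLe h.V_le).toEquiv
    rw [e, Subgroup.card_bot, h.card_V] at this
    norm_num at this
  obtain ⟨⟨v, hv⟩, hv1⟩ := ne_bot_iff_exists_ne_one.mp (PGroups.inf_center_ne_bot S.isPGroup' _ hne)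
  have hvV : (v : Q) ∈ V := hv.1
  have hv1' : (v : Q) ≠ 1 := fun e => hv1 (Subtype.ext (Subtype.ext e))
  have hfixv : ∀ p ∈ (S : Subgroup Q), p * v * p⁻¹ = v := fun p hp =>
    mul_inv_eq_iff_eq_mul.mpr (congrArg Subtype.val (mem_center_iff.mp hv.2 ⟨p, hp⟩))
  obtain ⟨u, huV, hu1, huv⟩ : ∃ u ∈ V, u ≠ 1 ∧ (v : Q) ≠ u := by
    classical
    by_contra hcon
    push Not at hcon
    have hsub : (↑V : Set Q) ⊆ ↑({1, (v : Q)} : Finset Q) := by
      intro a ha
      simp only [Finset.coe_insert, Finset.coe_singleton, Set.mem_insert_iff, Set.mem_singleton_iff]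
      by_cases e : a = 1
      · exact Or.inl e
      · exact Or.inr (hcon a ha e).symm
    have h2 := Set.ncard_le_ncard hsub
    rw [Set.ncard_coe_finset, ← Nat.card_coe_set_eq] at h2
    have h3 := (Finset.card_insert_le (1 : Q) {(v : Q)}).trans (le_of_eq (by rw [Finset.card_singleton]))
    have h4 : Nat.card ↥V ≤ 2 := h2.trans h3
    rw [h.card_V] at h4
    omega
  have hswap : ∀ p ∈ (S : Subgroup Q), p ∉ V → p * u * p⁻¹ = v * u := by
    intro p hp hpV
    rcases h.four hvV huV (h.conj_mem hp huV) hv1' hu1 huv with e | e | e | e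
    · exact absurd (conj_eq_one_iff.mp e) hu1
    · refine absurd ?_ huv
      have e' : p * v * p⁻¹ = p * u * p⁻¹ := (hfixv p hp).trans e.symm
      exact mul_left_cancel (mul_right_cancel e')
    · exfalso
      refine hpV (h.selfcent ⟨hp, fun a ha => ?_⟩)
      have cu : Commute p u := mul_inv_eq_iff_eq_mul.mp e
      have cv : Commute p (v : Q) := mul_inv_eq_iff_eq_mul.mp (hfixv p hp)
      rcases h.four hvV huV ha hv1' hu1 huv with rfl | rfl | rfl | rfl
      exacts [by simp, cv.eq.symm, cu.eq.symm, (cv.mul_right cu).eq.symm]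
    · exact e
  refine h.selfcent ⟨(S : Subgroup Q).mul_mem ((S : Subgroup Q).inv_mem hx) hy, fun a ha => ?_⟩
  have cu : Commute (x⁻¹ * y) u := by
    have e := (hswap y hy hyV).trans (hswap x hx hxV).symm
    show x⁻¹ * y * u = u * (x⁻¹ * y)
    calc x⁻¹ * y * u = x⁻¹ * (y * u * y⁻¹) * y := by group
      _ = x⁻¹ * (x * u * x⁻¹) * y := by rw [e]
      _ = u * (x⁻¹ * y) := by group
  have cv : Commute (x⁻¹ * y) (v : Q) :=
    mul_inv_eq_iff_eq_mul.mp (hfixv _ (mul_mem (inv_mem hx) hy))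
  rcases h.four hvV huV ha hv1' hu1 huv with rfl | rfl | rfl | rfl
  exacts [by simp, cv.eq.symm, cu.eq.symm, (cv.mul_right cu).eq.symm]

theorem Reduced.solvable_case (h : Reduced S V) (N : Subgroup Q) [N.Normal] (hN : N ≠ ⊥)
    (hab : ∀ a ∈ N, ∀ b ∈ N, a * b = b * a) :
    Nonempty (Q ≃* ↥(alternatingGroup (Fin 4))) ∨ Nonempty (Q ≃* Equiv.Perm (Fin 4)) := by
  haveI : Fact (Nat.Prime 2) := ⟨Nat.prime_two⟩
  have hVN := h.le_normal N hN
  obtain ⟨R, hR⟩ := H73.sylow_inf_normal S N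
  have hmap : (R : Subgroup ↥N).map N.subtype = V := by
    rw [hR, Subgroup.subgroupOf_map_subtype]
    exact le_antisymm (fun x hx => h.selfcent ⟨hx.1, fun v hv => hab v (hVN hv) x hx.2⟩)
      (le_inf h.V_le hVN)
  haveI : (R : Subgroup ↥N).Normal :=
    ⟨fun a ha b => by
      rw [show b * a = a * b from Subtype.ext (hab b b.2 a a.2), mul_inv_cancel_right]
      exact ha⟩
  haveI : (R : Subgroup ↥N).Characteristic := R.characteristic_of_normal inferInstance
  haveI hVn : V.Normal := hmap ▸ inferInstance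
  set K := centralizer (V : Set Q) with hK
  haveI : K.Normal := inferInstance
  have hVK : V ≤ K := fun a ha b hb => hab b (hVN hb) a (hVN ha)
  obtain ⟨X, hX⟩ := H73.sylow_inf_normal S K
  have hXV : ∀ a : ↥K, a ∈ (X : Subgroup ↥K) ↔ (a : Q) ∈ V := fun a => by
    rw [hX, mem_subgroupOf]
    exact ⟨fun ha => h.selfcent ⟨ha, a.2⟩, fun ha => h.V_le ha⟩
  have hcent : normalizer ((X : Subgroup ↥K) : Set ↥K) ≤ centralizer ((X : Subgroup ↥K) : Set ↥K) := by
    intro k _ a ha
    exact Subtype.ext (mem_centralizer_iff.mp k.2 a ((hXV a).mp ha))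
  have hc := MonoidHom.ker_transferSylow_isComplement' X hcent
  set O := (MonoidHom.transferSylow X hcent).ker
  have hOodd : Odd (Nat.card ↥O) := by
    rw [← hc.index_eq_card]
    exact Nat.not_even_iff_odd.mp fun he => X.not_dvd_index (even_iff_two_dvd.mp he)
  haveI : (Cfsg.pPrimeCore 2 ↥K).Characteristic := Cores.pPrimeCore_characteristic
  have hcore : Cfsg.pPrimeCore 2 ↥K = ⊥ := by
    rw [← Subgroup.map_eq_bot_iff_of_injective _ K.subtype_injective]
    refine eq_bot_of_odd h.core ?_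
    rw [Subgroup.card_map_of_injective K.subtype_injective]
    exact Nat.coprime_two_right.mp Cores.coprime_card_pPrimeCore
  have hObot : O = ⊥ := eq_bot_of_odd hcore hOodd
  have hKV : K ≤ V := by
    intro k hk
    have htop : (X : Subgroup ↥K) = ⊤ := by
      have := hc
      rw [hObot, isComplement'_bot_left] at this
      exact this
    exact (hXV ⟨k, hk⟩).mp (htop ▸ mem_top _)
  have hC : ∀ g : Q, (∀ v ∈ V, g * v = v * g) → g ∈ V := fun g hg =>
    hKV fun v hv => (hg v hv).symm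
  -- the action on the three involutions
  let A := {a : Q // a ∈ V ∧ a ≠ 1}
  letI : MulAction Q A :=
    { smul := fun g a => ⟨g * a.1 * g⁻¹, hVn.conj_mem _ a.2.1 g, fun e => a.2.2 (conj_eq_one_iff.mp e)⟩
      one_smul := fun a => Subtype.ext (show (1 : Q) * a.1 * (1 : Q)⁻¹ = a.1 by group)
      mul_smul := fun g g' a => Subtype.ext
        (show g * g' * a.1 * (g * g')⁻¹ = g * (g' * a.1 * g'⁻¹) * g⁻¹ by group) }
  have hA : Nat.card A = 3 := by
    have : Nat.card A = ((↑V : Set Q) \ {1}).ncard := by rw [← Nat.card_coe_set_eq]; rfl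
    rw [this, Set.ncard_sdiff_singleton_of_mem (one_mem V), ← Nat.card_coe_set_eq]
    exact congrArg (· - 1) h.card_V
  haveI : MulAction.IsPretransitive Q A := ⟨fun a b => by
    obtain ⟨g, hg⟩ := isConj_iff.mp (h.transitive _ a.2.1 _ b.2.1 a.2.2 b.2.2)
    exact ⟨g, Subtype.ext hg⟩⟩
  obtain ⟨a⟩ : Nonempty A := Nat.card_ne_zero.mp (by omega) |>.1
  have h3 : 3 ∣ Nat.card Q := by
    rw [← hA, ← MulAction.index_stabilizer_of_transitive Q a]
    exact Subgroup.index_dvd_card _
  have hker : (MulAction.toPermHom Q A).ker ≤ V := by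
    intro g hg
    refine hC g fun v hv => ?_
    by_cases hv1 : v = 1
    · simp [hv1]
    · have := congrArg (fun σ => (σ ⟨v, hv, hv1⟩ : A).1) (MonoidHom.mem_ker.mp hg)
      exact mul_inv_eq_iff_eq_mul.mp this
  have hle : Nat.card Q ≤ 24 := by
    rw [← card_mul_index (MulAction.toPermHom Q A).ker, Subgroup.index_ker]
    have e1 := (Subgroup.card_le_of_le hker).trans h.card_V.le
    have e2 : Nat.card ↥(MulAction.toPermHom Q A).range ≤ 6 :=
      (Subgroup.card_le_card_group _).trans (le_of_eq (by rw [Nat.card_perm, hA]; rfl))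
    exact (Nat.mul_le_mul e1 e2).trans (le_of_eq rfl)
  have h4 : 4 ∣ Nat.card Q := h.card_V ▸ Subgroup.card_subgroup_dvd_card V
  have h12 : 12 ∣ Nat.card Q := Nat.Coprime.mul_dvd_of_dvd_of_dvd (by norm_num : Nat.Coprime 4 3) h4 h3
  obtain ⟨c, hc'⟩ := h12
  have hpos : 0 < Nat.card Q := Nat.card_pos
  have : c = 1 ∨ c = 2 := by omega
  rcases this with rfl | rfl
  · exact Or.inl (H34.equiv_alt_four V h.card_V hC hc')
  · exact Or.inr (H34.equiv_perm_four V h.card_V hC hc')

theorem Reduced.perfect_case (hGW : GWInput.{u}) (h : Reduced S V) (N : Subgroup Q) [N.Normal]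
    (hN : N ≠ ⊥) (hperf : ⁅N, N⁆ = N) :
    N.Normal ∧ IsSimpleGroup ↥N ∧ ¬ IsMulCommutative ↥N ∧ centralizer (N : Set Q) = ⊥ ∧
      ∃ (F : Type) (_ : Field F) (_ : Fintype F), 3 < Fintype.card F ∧
        (Fintype.card F % 8 = 3 ∨ Fintype.card F % 8 = 5) ∧
        Nonempty (↥N ≃* Matrix.ProjectiveSpecialLinearGroup (Fin 2) F) := by
  haveI : Fact (Nat.Prime 2) := ⟨Nat.prime_two⟩
  have hVN := h.le_normal N hN
  obtain ⟨R, hR⟩ := H73.sylow_inf_normal S N
  haveI : Group.IsPerfect ↥N := (Subgroup.isPerfect_iff (H := N)).mpr hperf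
  have hRm : ∀ a : ↥N, a ∈ (R : Subgroup ↥N) ↔ (a : Q) ∈ (S : Subgroup Q) := fun a => by
    rw [hR, mem_subgroupOf]
  have hRV : ∀ a : ↥N, a ∈ (R : Subgroup ↥N) → (a : Q) ∈ V := by
    have hfoc : (R : Subgroup ↥N).focalSubgroup ≤ V.subgroupOf N := by
      rw [focalSubgroup_def, closure_le]
      rintro g ⟨hg, x, hx, w, rfl⟩
      show ((⁅x, w⁆ : ↥N) : Q) ∈ V
      have hxS : (x : Q) ∈ (S : Subgroup Q) := (hRm x).mp hx
      have hyS : (w : Q) * (x : Q)⁻¹ * (w : Q)⁻¹ ∈ (S : Subgroup Q) := by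
        have := mul_mem (inv_mem hxS) ((hRm _).mp hg)
        simpa [commutatorElement_def, mul_assoc] using this
      have hconj : IsConj (x : Q)⁻¹ ((w : Q) * (x : Q)⁻¹ * (w : Q)⁻¹) := isConj_iff.mpr ⟨_, rfl⟩
      rw [show ((⁅x, w⁆ : ↥N) : Q) = (x : Q) * ((w : Q) * (x : Q)⁻¹ * (w : Q)⁻¹) by
        simp [commutatorElement_def, mul_assoc]]
      by_cases hxV : (x : Q) ∈ V
      · exact mul_mem hxV (h.closed _ (inv_mem hxV) _ hyS hconj)
      · have hyV : (w : Q) * (x : Q)⁻¹ * (w : Q)⁻¹ ∉ V := fun hy =>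
          hxV (by simpa using inv_mem (h.closed _ hy _ (inv_mem hxS) hconj.symm))
        simpa using h.inv_mul_mem (inv_mem hxS) hyS (fun hh => hxV (by simpa using inv_mem hh)) hyV
    intro a ha
    have htop : commutator ↥N = ⊤ := Group.IsPerfect.commutator_eq_top
    have e := commutator_inf_eq_focalSubgroup (P := R)
    rw [htop, top_inf_eq] at e
    exact hfoc (e ▸ ha)
  have eR : ↥(R : Subgroup ↥N) ≃* ↥V :=
    { toFun := fun a => ⟨a.1.1, hRV _ a.2⟩
      invFun := fun v => ⟨⟨v.1, hVN v.2⟩, (hRm _).mpr (h.V_le v.2)⟩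
      left_inv := fun a => rfl
      right_inv := fun v => rfl
      map_mul' := fun a b => rfl }
  haveI := h.isKleinFour
  obtain ⟨eD⟩ : Nonempty (↥(R : Subgroup ↥N) ≃* DihedralGroup 2) := by
    obtain ⟨e⟩ : Nonempty (↥V ≃* DihedralGroup 2) := by
      classical
      have hc : Nat.card ↥V = Nat.card (DihedralGroup 2) := by
        rw [h.card_V, IsKleinFour.card_four]
      obtain ⟨e⟩ := Finite.card_eq.mp hc
      refine ⟨IsKleinFour.mulEquiv (e.trans (Equiv.swap (e 1) 1)) ?_⟩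
      simp
    exact ⟨eR.trans e⟩
  have hcoreN : Cfsg.oddCore ↥N = ⊥ := by
    haveI : (Cfsg.oddCore ↥N).Characteristic := Cores.pPrimeCore_characteristic
    rw [← Subgroup.map_eq_bot_iff_of_injective _ N.subtype_injective]
    refine eq_bot_of_odd h.core ?_
    rw [Subgroup.card_map_of_injective N.subtype_injective]
    exact Cores.odd_card_oddCore
  let e0 : (↥N ⧸ Cfsg.oddCore ↥N) ≃* ↥N :=
    (QuotientGroup.quotientMulEquivOfEq hcoreN).trans QuotientGroup.quotientBot
  have h8 : ¬ 8 ∣ Nat.card ↥N := by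
    intro hd
    rw [← card_mul_index (R : Subgroup ↥N), Nat.card_congr eR.toEquiv, h.card_V,
      show 8 = 4 * 2 from rfl] at hd
    exact R.not_dvd_index (Nat.dvd_of_mul_dvd_mul_left (by norm_num) hd)
  rcases hGW ↥N R 2 le_rfl ⟨eD⟩ with ⟨F, iF, iFF, hodd, h3, ⟨e⟩⟩ | ⟨⟨e⟩⟩
  · have e' : ↥N ≃* Matrix.ProjectiveSpecialLinearGroup (Fin 2) F := e0.symm.trans e
    haveI : IsSimpleGroup (Matrix.ProjectiveSpecialLinearGroup (Fin 2) F) :=
      Linear.isSimpleGroup_PSL_fin le_rfl fun _ => by rw [Nat.card_eq_fintype_card]; omega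
    have hs : IsSimpleGroup ↥N := e'.isSimpleGroup
    have hnc : ¬ IsMulCommutative ↥N := by
      intro hc
      haveI : Nontrivial ↥N := (Subgroup.nontrivial_iff_ne_bot N).mpr hN
      have : commutator ↥N = ⊥ := by
        rw [commutator_eq_bot_iff_center_eq_top, eq_top_iff]
        exact fun x _ => mem_center_iff.mpr fun y => hc.is_comm.comm y x
      rw [Group.IsPerfect.commutator_eq_top] at this
      exact top_ne_bot this
    refine ⟨‹N.Normal›, hs, hnc, ?_, F, iF, iFF, h3, ?_, ⟨e'⟩⟩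
    · by_contra hne
      have hVC := h.le_normal (centralizer (N : Set Q)) hne
      have hVbot : V = ⊥ := by
        rw [eq_bot_iff]
        intro v hv
        rcases hs.eq_bot_or_eq_top_of_normal (center ↥N) inferInstance with hz | hz
        · have : (⟨v, hVN hv⟩ : ↥N) ∈ center ↥N := mem_center_iff.mpr fun y =>
            Subtype.ext (mem_centralizer_iff.mp (hVC hv) y y.2)
          rw [hz, mem_bot] at this
          exact congrArg Subtype.val this
        · exact absurd ⟨⟨fun a b => (mem_center_iff.mp (hz ▸ mem_top a) b).symm⟩⟩ hnc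
      have := h.card_V
      rw [hVbot, Subgroup.card_bot] at this
      norm_num at this
    · have hcard := Linear.card_PSL_two_mul (F := F)
      rw [← Nat.card_congr e'.toEquiv] at hcard
      obtain ⟨q, hq⟩ : ∃ q, Fintype.card F = q := ⟨_, rfl⟩
      rw [hq] at hodd h3 hcard ⊢
      have hg : Nat.gcd 2 (q - 1) = 2 := Nat.gcd_eq_left (by
        obtain ⟨k, rfl⟩ := hodd; omega)
      rw [hg] at hcard
      by_contra hmod
      push Not at hmod
      apply h8
      obtain ⟨m, hm⟩ : ∃ m, q ^ 2 - 1 = 16 * m := by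
        obtain ⟨k, hk | hk⟩ : ∃ k, q = 8 * k + 1 ∨ q = 8 * k + 7 := ⟨q / 8, by
          obtain ⟨j, rfl⟩ := hodd; omega⟩
        · exact ⟨4 * k ^ 2 + k, Nat.sub_eq_of_eq_add (by rw [hk]; ring)⟩
        · exact ⟨4 * k ^ 2 + 7 * k + 3, Nat.sub_eq_of_eq_add (by rw [hk]; ring)⟩
      rw [hm] at hcard
      exact ⟨q * m, by linarith⟩
  · exfalso
    apply h8
    rw [Nat.card_congr (e0.symm.trans e).toEquiv, nat_card_alternatingGroup, Nat.card_fin]
    norm_num [Nat.factorial]

theorem Reduced.conclusion (hGW : GWInput.{u}) (h : Reduced S V) :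
    Nonempty (Q ≃* ↥(alternatingGroup (Fin 4))) ∨ Nonempty (Q ≃* Equiv.Perm (Fin 4)) ∨
    ∃ N : Subgroup Q, N.Normal ∧ IsSimpleGroup ↥N ∧ ¬ IsMulCommutative ↥N ∧
      centralizer (N : Set Q) = ⊥ ∧
      ∃ (F : Type) (_ : Field F) (_ : Fintype F), 3 < Fintype.card F ∧
        (Fintype.card F % 8 = 3 ∨ Fintype.card F % 8 = 5) ∧
        Nonempty (↥N ≃* Matrix.ProjectiveSpecialLinearGroup (Fin 2) F) := by
  haveI : Nontrivial Q := by
    by_contra hn
    rw [not_nontrivial_iff_subsingleton] at hn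
    have := h.card_V
    rw [Nat.card_of_subsingleton (1 : ↥V)] at this
    norm_num at this
  obtain ⟨N, hNn, hN, hmin⟩ := H69.exists_minimal_normal (G := Q)
  haveI := hNn
  by_cases hab : ⁅N, N⁆ = ⊥
  · rcases h.solvable_case N hN (fun a ha b hb => commutatorElement_eq_one_iff_mul_comm.mp
      (mem_bot.mp (hab ▸ commutator_mem_commutator ha hb))) with h1 | h1
    · exact Or.inl h1
    · exact Or.inr (Or.inl h1)
  · exact Or.inr (Or.inr ⟨N, h.perfect_case hGW N hN
      (hmin _ inferInstance hab (commutator_le_left N N))⟩)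

/-- Groups with exactly `|P|/2` classes of 2-elements, modulo Gorenstein–Walter. -/
theorem main (hGW : GWInput.{u}) {G : Type u} [Group G] [Finite G] (P : Sylow 2 G)
    (hO : Cfsg.pPrimeCore 2 G = ⊥)
    (hk : 2 * H73.piClassCount {2} G = Nat.card ↥(P : Subgroup G)) :
    Nonempty (G ⧸ center G ≃* ↥(alternatingGroup (Fin 4))) ∨
    Nonempty (G ⧸ center G ≃* Equiv.Perm (Fin 4)) ∨
    ∃ N : Subgroup (G ⧸ center G), N.Normal ∧ IsSimpleGroup ↥N ∧ ¬ IsMulCommutative ↥N ∧
      centralizer (N : Set (G ⧸ center G)) = ⊥ ∧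
      ∃ (F : Type) (_ : Field F) (_ : Fintype F), 3 < Fintype.card F ∧
        (Fintype.card F % 8 = 3 ∨ Fintype.card F % 8 = 5) ∧
        Nonempty (↥N ≃* Matrix.ProjectiveSpecialLinearGroup (Fin 2) F) := by
  haveI : Fact (Nat.Prime 2) := ⟨Nat.prime_two⟩
  by_cases hn : HasNormalPComplement 2 G
  · exfalso
    apply classes_ne_half (P.isPGroup')
    rw [← H73.classes_sylow_eq_of_hasNormalPComplement hn P]
    exact hk
  · obtain ⟨P', C, T, n, ht⟩ := exists_tight hn P hk
    exact (ht.reduced hO).conclusion hGW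

end Cfsg.Agent.H46.HalfClasses
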