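import Cfsg.Agent.H46.HalfClasses.Quot

/-!
# The statement of S3896, modulo Gorenstein–Walter
-/

set_option autoImplicit false

namespace Cfsg.Agent.H46.HalfClasses

universe u

/-- Everything of S3896 apart from the Gorenstein–Walter input. -/
theorem row (hGW : GWInput.{u}) {G : Type u} [Group G] [Finite G] (P : Sylow 2 G)
    (hO : Cfsg.pPrimeCore 2 G = ⊥)
    (hk : 2 * Nat.card {c : ConjClasses G // ∀ x ∈ c.carrier, ∃ k : ℕ, orderOf x = 2 ^ k} =
      Nat.card ↥(P : Subgroup G)) :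
    Nonempty (G ⧸ Subgroup.center G ≃* ↥(alternatingGroup (Fin 4))) ∨
    Nonempty (G ⧸ Subgroup.center G ≃* Equiv.Perm (Fin 4)) ∨
    ∃ S : Subgroup (G ⧸ Subgroup.center G), S.Normal ∧ IsSimpleGroup ↥S ∧ ¬ IsMulCommutative ↥S ∧
      Subgroup.centralizer (S : Set (G ⧸ Subgroup.center G)) = ⊥ ∧
      ∃ (F : Type) (_ : Field F) (_ : Fintype F), 3 < Fintype.card F ∧
        (Fintype.card F % 8 = 3 ∨ Fintype.card F % 8 = 5) ∧
        Nonempty (↥S ≃* Matrix.ProjectiveSpecialLinearGroup (Fin 2) F) := by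
  rw [H73.piClassCount_congr (fun x => (H73.piElem_singleton_iff Nat.prime_two x).symm)] at hk
  exact main hGW P hO hk

end Cfsg.Agent.H46.HalfClasses
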