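import Cfsg.Agent.H46.HalfClasses.Count
import Cfsg.Agent.H46.HalfClasses.Centre

/-!
# The tight configuration: `C = Z(G)`, `T` abelian normal in `P` and self-centralising
-/

set_option autoImplicit false
set_option linter.unusedSectionVars false
set_option linter.style.haveILetI false

namespace Cfsg.Agent.H46.HalfClasses

open Subgroup

universe u

variable {G : Type u} [Group G] [Finite G] {P : Sylow 2 G} {C T : Subgroup G} {n : G}

theorem Tight.conj_mem_T (h : Tight P C T n) {y z : G} (hy : y ∈ T) (hz : z ∈ (P : Subgroup G))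
    (hc : IsConj y z) : z ∈ T := by
  by_cases hyC : y ∈ C
  · rw [h.isolated y hyC z hz hc]; exact hy
  · rcases h.three y hy hyC z hz hc with rfl | rfl | rfl
    · exact hy
    · simpa using pow_conj_mem h.mem_normalizer 1 hy
    · exact pow_conj_mem h.mem_normalizer 2 hy

theorem Tight.le_normalizer_T (h : Tight P C T n) : (P : Subgroup G) ≤ normalizer (T : Set G) := by
  have key : ∀ p ∈ (P : Subgroup G), ∀ y ∈ T, p * y * p⁻¹ ∈ T := fun p hp y hy =>
    h.conj_mem_T hy (mul_mem (mul_mem hp (h.T_le hy)) (inv_mem hp)) (isConj_iff.mpr ⟨p, rfl⟩)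
  intro p hp
  rw [mem_normalizer_iff]
  refine fun y => ⟨key p hp y, fun hy => ?_⟩
  have := key p⁻¹ (inv_mem hp) _ hy
  simpa [mul_assoc] using this

theorem Tight.eq_center (h : Tight P C T n) (hO : Cfsg.pPrimeCore 2 G = ⊥) : C = center G := by
  refine le_antisymm (le_center_of_isolated _ G rfl hO P C (h.le_T.trans h.T_le) h.isolated) ?_
  intro z hz
  obtain ⟨Q, hQ⟩ := (center_isPGroup hO).exists_le_sylow
  haveI : Fact (Nat.Prime 2) := ⟨Nat.prime_two⟩
  obtain ⟨g, hg⟩ := MulAction.exists_smul_eq G Q P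
  have hzP : z ∈ (P : Subgroup G) := by
    rw [← hg, Sylow.coe_subgroup_smul]
    refine ⟨z, hQ hz, ?_⟩
    show g * z * g⁻¹ = z
    rw [mem_center_iff.mp hz g, mul_inv_cancel_right]
  have hzT : z ∈ T := h.centre_le ⟨hzP, fun x _ => mem_center_iff.mp hz x⟩
  exact (h.mem_C z).mpr ⟨hzT, by rw [mem_center_iff.mp hz n, mul_inv_cancel_right]⟩

theorem Tight.same_coset (h : Tight P C T n) {y z : G} (hy : y ∈ T) (hyC : y ∉ C)
    (hz : z ∈ (P : Subgroup G)) (hc : IsConj y z) (he : y⁻¹ * z ∈ C) : z = y := by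
  rcases h.three y hy hyC z hz hc with rfl | rfl | rfl
  · rfl
  · exact absurd (h.fix y hy 1 (Or.inl rfl) (by simpa using he)) hyC
  · exact absurd (h.fix y hy 2 (Or.inr rfl) he) hyC

theorem Tight.T_comm (h : Tight P C T n) (hO : Cfsg.pPrimeCore 2 G = ⊥) {u x : G} (hu : u ∈ T)
    (hx : x ∈ T) : u * x = x * u := by
  by_cases hxC : x ∈ C
  · rw [h.eq_center hO] at hxC
    exact mem_center_iff.mp hxC u
  haveI : Fact (Nat.Prime 2) := ⟨Nat.prime_two⟩
  haveI : (C.subgroupOf T).Normal := by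
    haveI : C.Normal := normal_of_le_center (h.eq_center hO).le
    infer_instance
  have hcard : Nat.card (↥T ⧸ C.subgroupOf T) = 2 ^ 2 := by
    have e := card_eq_card_quotient_mul_card_subgroup (C.subgroupOf T)
    rw [Nat.card_congr (Subgroup.subgroupOfEquivOfLe h.le_T).toEquiv, h.card_T] at e
    exact Nat.eq_of_mul_eq_mul_right Nat.card_pos (e.symm.trans (by norm_num))
  have hcomm := IsPGroup.commutative_of_card_eq_prime_sq hcard
    (QuotientGroup.mk ⟨u, hu⟩) (QuotientGroup.mk ⟨x, hx⟩)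
  have he : x⁻¹ * (u * x * u⁻¹) ∈ C := by
    have h' := QuotientGroup.eq.mp hcomm.symm
    rw [mem_subgroupOf] at h'
    simp only [Subgroup.coe_mul, Subgroup.coe_inv] at h'
    have hc' : C ≤ center G := (h.eq_center hO).le
    have e : x⁻¹ * (u * x * u⁻¹) = u * ((x * u)⁻¹ * (u * x)) * u⁻¹ := by group
    rw [e, mem_center_iff.mp (hc' h') u, mul_inv_cancel_right]
    exact h'
  have := h.same_coset hx hxC (h.T_le (mul_mem (mul_mem hu hx) (inv_mem hu)))
    (isConj_iff.mpr ⟨u, rfl⟩) he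
  exact mul_inv_eq_iff_eq_mul.mp this

/-- An element of odd order inside `N(T)` moving `T` and normalising `P ∩ C(T)`. -/
theorem Tight.exists_moving (h : Tight P C T n) (hn : n ∉ centralizer (T : Set G)) :
    ∃ m ∈ normalizer (T : Set G), Odd (orderOf m) ∧ m ∉ centralizer (T : Set G) ∧
      ∀ y ∈ (P : Subgroup G) ⊓ centralizer (T : Set G),
        m * y * m⁻¹ ∈ (P : Subgroup G) ⊓ centralizer (T : Set G) := by
  haveI : Fact (Nat.Prime 2) := ⟨Nat.prime_two⟩
  set N := normalizer (T : Set G) with hN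
  set K : Subgroup N := (centralizer (T : Set G)).subgroupOf N with hK
  haveI : K.Normal := by rw [hK, ← normalizerMonoidHom_ker]; infer_instance
  obtain ⟨R, hR⟩ := H73.sylow_inf_normal (P.subtype h.le_normalizer_T) K
  have hfr := Sylow.normalizer_sup_eq_top R
  rw [hR, Subgroup.subgroupOf_map_subtype] at hfr
  have hmem : (⟨n, h.mem_normalizer⟩ : N) ∈ normalizer
      ((((P.subtype h.le_normalizer_T : Sylow 2 N) : Subgroup N) ⊓ K : Subgroup N) : Set N) ⊔ K :=
    hfr ▸ mem_top _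
  rw [← SetLike.mem_coe, mul_normal] at hmem
  obtain ⟨a, ha, k, hk, hak⟩ := Set.mem_mul.mp hmem
  obtain ⟨j, hj, -⟩ := S2010.exists_odd_pow (a : G)
  refine ⟨(a : G) ^ 2 ^ j, pow_mem a.2 _, hj, ?_, ?_⟩
  · intro hmc
    have hmK : a ^ 2 ^ j ∈ K := show ((a ^ 2 ^ j : N) : G) ∈ centralizer (T : Set G) from hmc
    have hnK : (⟨n, h.mem_normalizer⟩ : N) ^ 2 ^ j ∈ K := by
      rw [← hak, ← QuotientGroup.eq_one_iff, QuotientGroup.mk_pow, QuotientGroup.mk_mul,
        (QuotientGroup.eq_one_iff k).mpr hk, mul_one, ← QuotientGroup.mk_pow,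
        (QuotientGroup.eq_one_iff _).mpr hmK]
    obtain ⟨i, hi⟩ := exists_pow_eq_self_of_coprime (x := (⟨n, h.mem_normalizer⟩ : N)) (n := 2 ^ j)
      (by rw [Subgroup.orderOf_mk]; exact (Nat.coprime_two_left.mpr h.odd).pow_left j)
    exact hn (show ((⟨n, h.mem_normalizer⟩ : N) : G) ∈ centralizer (T : Set G) from
      hi ▸ (pow_mem hnK i : ((⟨n, h.mem_normalizer⟩ : N) ^ 2 ^ j) ^ i ∈ K))
  · intro y hy
    have hyN : y ∈ N := h.le_normalizer_T hy.1
    have := (mem_normalizer_iff.mp (pow_mem ha (2 ^ j)) ⟨y, hyN⟩).mp ⟨hy.1, hy.2⟩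
    exact ⟨this.1, this.2⟩

theorem Tight.not_mem_centralizer (h : Tight P C T n) : n ∉ centralizer (T : Set G) := by
  intro hn
  have hTC : T ≤ C := fun t ht => (h.mem_C t).mpr
    ⟨ht, mul_inv_eq_iff_eq_mul.mpr (mem_centralizer_iff.mp hn t ht).symm⟩
  have h4 := h.card_T
  rw [le_antisymm hTC h.le_T] at h4
  have := (Nat.card_pos : 0 < Nat.card ↥C)
  omega

theorem Tight.inf_centralizer_le (h : Tight P C T n) (hO : Cfsg.pPrimeCore 2 G = ⊥) :
    (P : Subgroup G) ⊓ centralizer (T : Set G) ≤ T := by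
  intro y hy
  by_contra hyT
  obtain ⟨m, -, hmo, hmc, hmQ⟩ := h.exists_moving h.not_mem_centralizer
  have key : ∀ w ∈ (P : Subgroup G) ⊓ centralizer (T : Set G), w ∉ T → Commute m w := by
    intro w hw hwT
    have h1 := hmQ w hw
    have h2 := hmQ _ h1
    have hc1 : IsConj w (m * w * m⁻¹) := isConj_iff.mpr ⟨m, rfl⟩
    have hc2 : IsConj w (m * (m * w * m⁻¹) * m⁻¹) := hc1.trans (isConj_iff.mpr ⟨m, rfl⟩)
    by_cases he : m * w * m⁻¹ = w
    · exact mul_inv_eq_iff_eq_mul.mp he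
    have he2 : m * (m * w * m⁻¹) * m⁻¹ = w := by
      by_contra hne
      have h3 := h.two w hw.1 hwT _ h1.1 _ h2.1 hc1 hc2 he hne
      exact he (mul_left_cancel (mul_right_cancel h3)).symm
    have hsq : Commute (m ^ 2) w := by
      have e : m ^ 2 * w * (m ^ 2)⁻¹ = m * (m * w * m⁻¹) * m⁻¹ := by rw [pow_two]; group
      exact mul_inv_eq_iff_eq_mul.mp (e.trans he2)
    obtain ⟨i, hi⟩ := exists_pow_eq_self_of_coprime (x := m) (n := 2) (Nat.coprime_two_left.mpr hmo)
    exact hi ▸ hsq.pow_left i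
  apply hmc
  rw [mem_centralizer_iff]
  intro t ht
  have hty : t * y ∈ (P : Subgroup G) ⊓ centralizer (T : Set G) :=
    mul_mem ⟨h.T_le ht, fun u hu => h.T_comm hO hu ht⟩ hy
  have e1 := key _ hty fun hc => hyT (by simpa using mul_mem (inv_mem ht) hc)
  have e2 := key y hy hyT
  have : Commute m t := by simpa using e1.mul_right e2.inv_right
  exact this.eq.symm

/-- `T` is self-centralising modulo the centre inside `P`. -/
theorem Tight.mem_T_of_fix (h : Tight P C T n) (hO : Cfsg.pPrimeCore 2 G = ⊥) {p : G}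
    (hp : p ∈ (P : Subgroup G)) (hfix : ∀ t ∈ T, t⁻¹ * (p * t * p⁻¹) ∈ C) : p ∈ T := by
  refine h.inf_centralizer_le hO ⟨hp, fun t ht => ?_⟩
  by_cases htC : t ∈ C
  · rw [h.eq_center hO] at htC
    exact (mem_center_iff.mp htC p).symm
  · exact (mul_inv_eq_iff_eq_mul.mp (h.same_coset ht htC
      (mul_mem (mul_mem hp (h.T_le ht)) (inv_mem hp)) (isConj_iff.mpr ⟨p, rfl⟩) (hfix t ht))).symm

end Cfsg.Agent.H46.HalfClasses
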